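import Cfsg.Agent.H399.Frob.Orbit

/-!
# Linear algebra: extending a map of a nilpotent module; the Frobenius twist of a representation
-/

set_option autoImplicit false

namespace Cfsg.Agent.H399.Frob

open Module

section lin

variable {K : Type*} [Field K] {W W' : Type*} [AddCommGroup W] [Module K W] [AddCommGroup W'] [Module K W']

theorem exists_ext {m : ℕ} (ν : End K W) (ν' : End K W') {s : W}
    (hs : s ∉ LinearMap.range (ν ^ (m + 1))) (hνs : ν s = 0) {u' : W'} (hu' : (ν' ^ (m + 1)) u' = 0) :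
    ∃ h : W →ₗ[K] W', (∀ w, h (ν w) = ν' (h w)) ∧ h s = (ν' ^ m) u' := by
  obtain ⟨f, hf1, hf2⟩ := Submodule.exists_dual_map_eq_bot_of_notMem hs inferInstance
  have hf0 : ∀ w, f ((ν ^ (m + 1)) w) = 0 := by
    intro w
    have h1 : f ((ν ^ (m + 1)) w) ∈ (LinearMap.range (ν ^ (m + 1))).map f :=
      Submodule.mem_map_of_mem ⟨w, rfl⟩
    rw [hf2] at h1
    exact (Submodule.mem_bot K).1 h1
  let h : W →ₗ[K] W' := ∑ i ∈ Finset.range (m + 1),
    ((f s)⁻¹ • (f ∘ₗ (ν ^ i))).smulRight ((ν' ^ (m - i)) u')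
  have happ : ∀ w, h w = ∑ i ∈ Finset.range (m + 1), ((f s)⁻¹ * f ((ν ^ i) w)) • (ν' ^ (m - i)) u' := by
    intro w
    simp only [h, LinearMap.sum_apply, LinearMap.smulRight_apply, LinearMap.smul_apply, LinearMap.comp_apply,
      smul_eq_mul]
  refine ⟨h, fun w => ?_, ?_⟩
  · rw [happ, happ, map_sum, Finset.sum_range_succ, Finset.sum_range_succ']
    have e1 : (ν ^ m) (ν w) = (ν ^ (m + 1)) w := by rw [pow_succ]; rfl
    have e2 : ν' (((f s)⁻¹ * f ((ν ^ 0) w)) • (ν' ^ (m - 0)) u') = 0 := by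
      rw [map_smul, Nat.sub_zero]
      have : ν' ((ν' ^ m) u') = (ν' ^ (m + 1)) u' := by rw [pow_succ']; rfl
      rw [this, hu', smul_zero]
    rw [e1, hf0, mul_zero, zero_smul, add_zero, e2, add_zero]
    refine Finset.sum_congr rfl fun i hi => ?_
    have him : i < m := Finset.mem_range.1 hi
    rw [map_smul]
    have e3 : (ν ^ i) (ν w) = (ν ^ (i + 1)) w := by rw [pow_succ]; rfl
    have e4 : ν' ((ν' ^ (m - (i + 1))) u') = (ν' ^ (m - i)) u' := by
      have : m - i = (m - (i + 1)) + 1 := by omega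
      rw [this, pow_succ']; rfl
    rw [e3, e4]
  · rw [happ, Finset.sum_range_succ']
    have e1 : ∀ i, (ν ^ (i + 1)) s = 0 := by
      intro i
      have : (ν ^ (i + 1)) s = (ν ^ i) (ν s) := by rw [pow_succ]; rfl
      rw [this, hνs, map_zero]
    have e2 : ∑ k ∈ Finset.range m, ((f s)⁻¹ * f ((ν ^ (k + 1)) s)) • (ν' ^ (m - (k + 1))) u' = 0 := by
      refine Finset.sum_eq_zero fun k _ => ?_
      rw [e1, map_zero, mul_zero, zero_smul]
    rw [e2, zero_add, pow_zero, Module.End.one_apply, inv_mul_cancel₀ hf1, one_smul, Nat.sub_zero]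

theorem exists_height (ν : End K W) {q : ℕ} (hν : ν ^ q = 0) {s : W} (hs : s ≠ 0) :
    ∃ (m : ℕ) (u : W), (ν ^ m) u = s ∧ s ∉ LinearMap.range (ν ^ (m + 1)) := by
  classical
  have hex : ∃ k, s ∉ LinearMap.range (ν ^ k) := ⟨q, by
    rw [hν]
    rintro ⟨w, hw⟩
    exact hs hw.symm⟩
  have h0 : Nat.find hex ≠ 0 := by
    intro h
    apply Nat.find_spec hex
    rw [h, pow_zero]
    exact ⟨s, rfl⟩
  obtain ⟨m, hm⟩ : ∃ m, Nat.find hex = m + 1 := ⟨Nat.find hex - 1, by omega⟩
  have h1 : ¬ s ∉ LinearMap.range (ν ^ m) := Nat.find_min hex (by omega)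
  push Not at h1
  obtain ⟨u, hu⟩ := h1
  refine ⟨m, u, hu, ?_⟩
  rw [← hm]
  exact Nat.find_spec hex

end lin

section twist

variable {K : Type*} [Field K] {p : ℕ} [Fact p.Prime] [CharP K p] {G : Type*} [Group G] {n : ℕ}

variable (K p n) in
/-- the Frobenius map on vectors -/
def Fr : (Fin n → K) →+ (Fin n → K) := (frobenius K p).toAddMonoidHom.compLeft (Fin n)

theorem Fr_apply (v : Fin n → K) (i : Fin n) : Fr K p n v i = v i ^ p := rfl

theorem Fr_smul (a : K) (v : Fin n → K) : Fr K p n (a • v) = a ^ p • Fr K p n v := by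
  funext i
  rw [Fr_apply, Pi.smul_apply, Pi.smul_apply, Fr_apply, smul_eq_mul, smul_eq_mul, mul_pow]

theorem Fr_injective : Function.Injective (Fr K p n) := by
  intro v w h
  funext i
  exact frobenius_inj K p (congrFun h i)

theorem Fr_surjective [IsAlgClosed K] : Function.Surjective (Fr K p n) := by
  intro v
  have hp : 0 < p := (Fact.out : p.Prime).pos
  choose w hw using fun i => IsAlgClosed.exists_pow_nat_eq (v i) hp
  exact ⟨w, funext hw⟩

/-- The Frobenius twist. -/
noncomputable def twist (p : ℕ) [Fact p.Prime] [CharP K p] (σ : Representation K G (Fin n → K)) :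
    Representation K G (Fin n → K) where
  toFun g := Matrix.toLin' ((LinearMap.toMatrix' (σ g)).map (frobenius K p))
  map_one' := by
    rw [map_one]
    have : LinearMap.toMatrix' (1 : End K (Fin n → K)) = 1 := LinearMap.toMatrix'_one
    rw [this, Matrix.map_one _ (map_zero _) (map_one _), Matrix.toLin'_one]
    rfl
  map_mul' g h := by
    rw [map_mul]
    have : LinearMap.toMatrix' (σ g * σ h) = LinearMap.toMatrix' (σ g) * LinearMap.toMatrix' (σ h) :=
      LinearMap.toMatrix'_mul _ _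
    rw [this, Matrix.map_mul, Matrix.toLin'_mul]
    rfl

theorem twist_apply_Fr (σ : Representation K G (Fin n → K)) (g : G) (v : Fin n → K) :
    twist p σ g (Fr K p n v) = Fr K p n (σ g v) := by
  funext i
  have h1 : twist p σ g (Fr K p n v) = ((LinearMap.toMatrix' (σ g)).map (frobenius K p)).mulVec (Fr K p n v) :=
    Matrix.toLin'_apply _ _
  have h2 : σ g v = (LinearMap.toMatrix' (σ g)).mulVec v := by
    rw [← Matrix.toLin'_apply, Matrix.toLin'_toMatrix']
  rw [h1, Fr_apply, h2]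
  show ∑ j, frobenius K p (LinearMap.toMatrix' (σ g) i j) * frobenius K p (v j) =
    frobenius K p (∑ j, LinearMap.toMatrix' (σ g) i j * v j)
  rw [map_sum]
  exact Finset.sum_congr rfl fun j _ => (map_mul _ _ _).symm

theorem trace_twist (σ : Representation K G (Fin n → K)) (g : G) :
    LinearMap.trace K _ (twist p σ g) = LinearMap.trace K _ (σ g) ^ p := by
  have h1 : twist p σ g = Matrix.toLin' ((LinearMap.toMatrix' (σ g)).map (frobenius K p)) := rfl
  have h2 : LinearMap.trace K _ (σ g) = (LinearMap.toMatrix' (σ g)).trace := by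
    rw [← Matrix.trace_toLin'_eq, Matrix.toLin'_toMatrix']
  rw [h1, Matrix.trace_toLin'_eq, h2]
  show ∑ i, frobenius K p (LinearMap.toMatrix' (σ g) i i) = frobenius K p (∑ i, LinearMap.toMatrix' (σ g) i i)
  rw [map_sum]

end twist

end Cfsg.Agent.H399.Frob
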