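import Mathlib

/-!
# Sums over the orbits of a group of prime order
-/

set_option autoImplicit false

namespace Cfsg.Agent.H399.Frob

open scoped Classical in
/-- A group of prime order `p` acts on `Ω`; `φ` equivariant with values in a module: the sum over an invariant
set is the sum over its fixed points plus a norm. -/
theorem sum_finset {A Ω W : Type*} [Group A] [Fintype A] {p : ℕ} (hp : p.Prime) (hA : Nat.card A = p)
    [MulAction A Ω] [AddCommGroup W] (ρ : A → W →+ W) (φ : Ω → W) (hφ : ∀ z c, φ (z • c) = ρ z (φ c)) (S : Finset Ω)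
    (hS : ∀ z : A, ∀ c ∈ S, z • c ∈ S) :
    ∃ w, ∑ c ∈ S, φ c = ∑ c ∈ S with (∀ z : A, z • c = c), φ c + ∑ z : A, ρ z w := by
  induction hn : S.card using Nat.strong_induction_on generalizing S with
  | _ n ih =>
    by_cases h : ∃ c ∈ S, ¬ ∀ z : A, z • c = c
    · obtain ⟨c, hc, hcf⟩ := h
      have hinj : Function.Injective (fun z : A => z • c) := by
        have hst : MulAction.stabilizer A c = ⊥ := by
          have : Fact (Nat.card A).Prime := ⟨hA ▸ hp⟩
          rcases Subgroup.eq_bot_or_eq_top_of_prime_card (MulAction.stabilizer A c) with h1 | h1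
          · exact h1
          · exfalso
            apply hcf
            intro z
            have : z ∈ MulAction.stabilizer A c := by rw [h1]; trivial
            exact this
        intro z z' hz
        have h2 : z'⁻¹ * z ∈ MulAction.stabilizer A c := by
          rw [MulAction.mem_stabilizer_iff, mul_smul]
          have : z • c = z' • c := hz
          rw [this, inv_smul_smul]
        rw [hst, Subgroup.mem_bot] at h2
        exact (inv_mul_eq_one.1 h2).symm
      set O : Finset Ω := Finset.univ.image (fun z : A => z • c) with hO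
      have hOS : O ⊆ S := by
        intro a ha
        obtain ⟨z, -, rfl⟩ := Finset.mem_image.1 ha
        exact hS z c hc
      have hcO : c ∈ O := Finset.mem_image.2 ⟨1, Finset.mem_univ _, one_smul A c⟩
      have hOinv : ∀ z : A, ∀ a : Ω, z • a ∈ O → a ∈ O := by
        intro z a ha
        obtain ⟨z', -, hz'⟩ := Finset.mem_image.1 ha
        refine Finset.mem_image.2 ⟨z⁻¹ * z', Finset.mem_univ _, ?_⟩
        rw [mul_smul, hz', inv_smul_smul]
      have hnf : ∀ a ∈ O, ¬ ∀ z : A, z • a = a := by
        intro a ha hz
        obtain ⟨z', -, rfl⟩ := Finset.mem_image.1 ha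
        apply hcf
        intro z
        have h3 := hz (z' * z * z'⁻¹)
        have h4 : (z' * z * z'⁻¹) • (z' • c) = z' • (z • c) := by
          rw [← mul_smul, ← mul_smul]; congr 1; group
        rw [h4] at h3
        exact smul_left_cancel z' h3
      have hlt : (S \ O).card < n := by
        rw [← hn]
        exact Finset.card_lt_card (Finset.ssubset_iff_of_subset Finset.sdiff_subset |>.2
          ⟨c, hc, fun h => (Finset.mem_sdiff.1 h).2 hcO⟩)
      obtain ⟨w, hw⟩ := ih _ hlt (S \ O) (fun z a ha => by
        rw [Finset.mem_sdiff] at ha ⊢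
        exact ⟨hS z a ha.1, fun h => ha.2 (hOinv z a h)⟩) rfl
      have hsumO : ∑ a ∈ O, φ a = ∑ z : A, ρ z (φ c) := by
        rw [hO, Finset.sum_image (fun a _ b _ h => hinj h)]
        exact Finset.sum_congr rfl fun z _ => hφ z c
      refine ⟨w + φ c, ?_⟩
      rw [← Finset.sum_sdiff hOS, hw, hsumO]
      have hfil : S.filter (fun c => ∀ z : A, z • c = c) = (S \ O).filter (fun c => ∀ z : A, z • c = c) := by
        ext a
        simp only [Finset.mem_filter, Finset.mem_sdiff]
        constructor
        · rintro ⟨h1, h2⟩
          exact ⟨⟨h1, fun h => hnf a h h2⟩, h2⟩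
        · rintro ⟨⟨h1, -⟩, h2⟩
          exact ⟨h1, h2⟩
      rw [hfil]
      simp only [map_add, Finset.sum_add_distrib]
      abel
    · push Not at h
      refine ⟨0, ?_⟩
      simp only [map_zero, Finset.sum_const_zero, add_zero]
      rw [Finset.filter_true_of_mem h]

end Cfsg.Agent.H399.Frob
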